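import Groth.Prelude.Def_W4c2movlemaddchowShuffle
import Mathlib.Data.Fin.Tuple.Sort
import Mathlib.GroupTheory.Perm.Sign

/-!
Composing shuffles.
-/

open Equiv W4c2movlemaddchow

namespace Groth.Agent.ShuffleLib

theorem exists_monotone_comp {a N : ℕ} (g : Fin a → Fin N) :
    ∃ (σ : Perm (Fin a)) (h : Fin a → Fin N), Monotone h ∧ g = h ∘ σ :=
  ⟨(Tuple.sort g)⁻¹, g ∘ Tuple.sort g, Tuple.monotone_sort g, by ext x; simp⟩

theorem perm_eq_of_monotone {a N : ℕ} {h h' : Fin a → Fin N} {σ σ' : Perm (Fin a)} (hh : Monotone h)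
    (hh' : Monotone h') (hi : Function.Injective h) (he : h ∘ σ = h' ∘ σ') : σ = σ' := by
  have h1 : (h ∘ σ) ∘ (σ⁻¹ : Perm (Fin a)) = h := by ext x; simp
  have h2 : (h ∘ σ) ∘ (σ'⁻¹ : Perm (Fin a)) = h' := by rw [he]; ext x; simp
  have := Tuple.unique_monotone (f := h ∘ σ) (σ := σ⁻¹) (τ := σ'⁻¹) (h1.symm ▸ hh) (h2.symm ▸ hh')
  exact inv_injective (Equiv.ext fun x => hi.comp σ.injective (congrFun this x))

section right

variable {r s t : ℕ}

theorem extRight_castAdd (σ : Perm (Fin (r + s))) (i : Fin (r + s)) :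
    extRight (r + s) t σ (Fin.castAdd t i) = Fin.castAdd t (σ i) := by simp [extRight]

theorem extRight_natAdd (σ : Perm (Fin (r + s))) (l : Fin t) :
    extRight (r + s) t σ (Fin.natAdd (r + s) l) = Fin.natAdd (r + s) l := by simp [extRight]

theorem bijOn_extRight (r s t : ℕ) :
    Set.BijOn (fun p : Perm (Fin (r + s + t)) × Perm (Fin (r + s)) => p.1 * extRight (r + s) t p.2)
      ({τ | IsShuffle₂ (r + s) t τ} ×ˢ {σ | IsShuffle₂ r s σ}) {ν | IsShuffle₃ r s t ν} := by
  refine ⟨?_, ?_, ?_⟩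
  · rintro ⟨τ, σ⟩ ⟨hτ, hσ⟩
    refine ⟨fun i j hij => ?_, fun i j hij => ?_, fun i j hij => ?_⟩
    · simp only [Perm.mul_apply, extRight_castAdd]
      exact hτ.1 (hσ.1 hij)
    · simp only [Perm.mul_apply, extRight_castAdd]
      exact hτ.1 (hσ.2 hij)
    · simp only [Perm.mul_apply, extRight_natAdd]
      exact hτ.2 hij
  · rintro ⟨τ, σ⟩ ⟨hτ, hσ⟩ ⟨τ', σ'⟩ ⟨hτ', hσ'⟩ he
    replace he : τ * extRight (r + s) t σ = τ' * extRight (r + s) t σ' := he
    obtain rfl : σ = σ' := perm_eq_of_monotone hτ.1 hτ'.1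
      (τ.injective.comp (Fin.castAdd_injective _ _)) (funext fun i => by
        simpa [extRight_castAdd] using DFunLike.congr_fun he (Fin.castAdd t i))
    rw [mul_right_cancel he]
  · intro ν hν
    obtain ⟨σ, h, hh, he⟩ := exists_monotone_comp (fun i => ν (Fin.castAdd t i))
    have hg : ∀ i, ν (Fin.castAdd t i) = h (σ i) := congrFun he
    have hinj : Function.Injective h := fun x y hxy => by
      obtain ⟨x, rfl⟩ := σ.surjective x
      obtain ⟨y, rfl⟩ := σ.surjective y
      rw [← hg, ← hg] at hxy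
      rw [Fin.castAdd_injective _ _ (ν.injective hxy)]
    have hs : StrictMono h := hh.strictMono_of_injective hinj
    have h1 : ∀ i, (ν * (extRight (r + s) t σ)⁻¹) (Fin.castAdd t i) = h i := fun i => by
      obtain ⟨i, rfl⟩ := σ.surjective i
      rw [← extRight_castAdd, Perm.mul_apply, Equiv.Perm.inv_def, Equiv.symm_apply_apply, hg]
    have h2 : ∀ l, (ν * (extRight (r + s) t σ)⁻¹) (Fin.natAdd (r + s) l) = ν (Fin.natAdd (r + s) l) := fun l => by
      conv_lhs => rw [← extRight_natAdd σ l]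
      rw [Perm.mul_apply, Equiv.Perm.inv_def, Equiv.symm_apply_apply]
    refine ⟨(ν * (extRight (r + s) t σ)⁻¹, σ), ⟨⟨fun i j hij => ?_, fun i j hij => ?_⟩,
      fun i j hij => hs.le_iff_le.mp ?_, fun i j hij => hs.le_iff_le.mp ?_⟩, inv_mul_cancel_right ν _⟩
    · simp only [h1]; exact hh hij
    · simp only [h2]; exact hν.2.2 hij
    · rw [← hg, ← hg]; exact hν.1 hij
    · rw [← hg, ← hg]; exact hν.2.1 hij

theorem sign_extRight (σ : Perm (Fin (r + s))) : Perm.sign (extRight (r + s) t σ) = Perm.sign σ := by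
  simp [extRight]

end right

section left

variable {r s t : ℕ}

/-- The last `s + t` positions. -/
def tailPos (r s t : ℕ) (j : Fin (s + t)) : Fin (r + s + t) :=
  (finCongr (Nat.add_assoc r s t)).symm (Fin.natAdd r j)

theorem tailPos_injective : Function.Injective (tailPos r s t) :=
  (finCongr _).symm.injective.comp (Fin.natAdd_injective _ _)

theorem extLeft_head (σ : Perm (Fin (s + t))) (i : Fin r) :
    extLeft r s t σ ((finCongr (Nat.add_assoc r s t)).symm (Fin.castAdd (s + t) i)) =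
      (finCongr (Nat.add_assoc r s t)).symm (Fin.castAdd (s + t) i) := by simp [extLeft]

theorem extLeft_tail (σ : Perm (Fin (s + t))) (j : Fin (s + t)) :
    extLeft r s t σ (tailPos r s t j) = tailPos r s t (σ j) := by simp [extLeft, tailPos]

theorem head_eq (i : Fin r) :
    Fin.castAdd t (Fin.castAdd s i) = (finCongr (Nat.add_assoc r s t)).symm (Fin.castAdd (s + t) i) := Fin.ext rfl

theorem mid_eq (j : Fin s) : Fin.castAdd t (Fin.natAdd r j) = tailPos r s t (Fin.castAdd t j) := Fin.ext rfl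

theorem last_eq (l : Fin t) : Fin.natAdd (r + s) l = tailPos r s t (Fin.natAdd s l) :=
  Fin.ext (by simp [tailPos, Nat.add_assoc])

theorem shuffle₂_iff {τ : Perm (Fin (r + s + t))} :
    IsShuffle₂ r (s + t) ((finCongr (Nat.add_assoc r s t)).permCongr τ) ↔
      Monotone (fun i : Fin r => τ ((finCongr (Nat.add_assoc r s t)).symm (Fin.castAdd (s + t) i))) ∧
        Monotone (fun j : Fin (s + t) => τ (tailPos r s t j)) :=
  ⟨fun h => ⟨fun _ _ hij => h.1 hij, fun _ _ hij => h.2 hij⟩,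
    fun h => ⟨fun _ _ hij => h.1 hij, fun _ _ hij => h.2 hij⟩⟩

theorem bijOn_extLeft (r s t : ℕ) :
    Set.BijOn (fun p : Perm (Fin (r + s + t)) × Perm (Fin (s + t)) => p.1 * extLeft r s t p.2)
      ({τ | IsShuffle₂ r (s + t) ((finCongr (Nat.add_assoc r s t)).permCongr τ)} ×ˢ {σ | IsShuffle₂ s t σ})
      {ν | IsShuffle₃ r s t ν} := by
  refine ⟨?_, ?_, ?_⟩
  · rintro ⟨τ, σ⟩ ⟨hτ, hσ⟩
    obtain ⟨hτ₁, hτ₂⟩ := shuffle₂_iff.mp hτ
    refine ⟨fun i j hij => ?_, fun i j hij => ?_, fun i j hij => ?_⟩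
    · simp only [Perm.mul_apply, head_eq, extLeft_head]
      exact hτ₁ hij
    · simp only [Perm.mul_apply, mid_eq, extLeft_tail]
      exact hτ₂ (hσ.1 hij)
    · simp only [Perm.mul_apply, last_eq, extLeft_tail]
      exact hτ₂ (hσ.2 hij)
  · rintro ⟨τ, σ⟩ ⟨hτ, hσ⟩ ⟨τ', σ'⟩ ⟨hτ', hσ'⟩ he
    replace he : τ * extLeft r s t σ = τ' * extLeft r s t σ' := he
    obtain rfl : σ = σ' := perm_eq_of_monotone (shuffle₂_iff.mp hτ).2 (shuffle₂_iff.mp hτ').2
      (τ.injective.comp tailPos_injective) (funext fun i => by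
        simpa [extLeft_tail] using DFunLike.congr_fun he (tailPos r s t i))
    rw [mul_right_cancel he]
  · intro ν hν
    obtain ⟨σ, h, hh, he⟩ := exists_monotone_comp (fun i => ν (tailPos r s t i))
    have hg : ∀ i, ν (tailPos r s t i) = h (σ i) := congrFun he
    have hinj : Function.Injective h := fun x y hxy => by
      obtain ⟨x, rfl⟩ := σ.surjective x
      obtain ⟨y, rfl⟩ := σ.surjective y
      rw [← hg, ← hg] at hxy
      rw [tailPos_injective (ν.injective hxy)]
    have hs : StrictMono h := hh.strictMono_of_injective hinj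
    have h1 : ∀ i, (ν * (extLeft r s t σ)⁻¹) (tailPos r s t i) = h i := fun i => by
      obtain ⟨i, rfl⟩ := σ.surjective i
      rw [← extLeft_tail, Perm.mul_apply, Equiv.Perm.inv_def, Equiv.symm_apply_apply, hg]
    have h2 : ∀ i, (ν * (extLeft r s t σ)⁻¹) ((finCongr (Nat.add_assoc r s t)).symm (Fin.castAdd (s + t) i)) =
        ν ((finCongr (Nat.add_assoc r s t)).symm (Fin.castAdd (s + t) i)) := fun i => by
      conv_lhs => rw [← extLeft_head σ i]
      rw [Perm.mul_apply, Equiv.Perm.inv_def, Equiv.symm_apply_apply]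
    refine ⟨(ν * (extLeft r s t σ)⁻¹, σ), ⟨shuffle₂_iff.mpr ⟨fun i j hij => ?_, fun i j hij => ?_⟩,
      fun i j hij => hs.le_iff_le.mp ?_, fun i j hij => hs.le_iff_le.mp ?_⟩, inv_mul_cancel_right ν _⟩
    · simp only [h2]; rw [← head_eq, ← head_eq]; exact hν.1 hij
    · simp only [h1]; exact hh hij
    · rw [← hg, ← hg, ← mid_eq, ← mid_eq]; exact hν.2.1 hij
    · rw [← hg, ← hg, ← last_eq, ← last_eq]; exact hν.2.2 hij

theorem sign_extLeft (σ : Perm (Fin (s + t))) : Perm.sign (extLeft r s t σ) = Perm.sign σ := by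
  simp [extLeft]

end left

end Groth.Agent.ShuffleLib
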